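import Cfsg.Agent.H173.RU.Lift
import Cfsg.Agent.BpField.PSU
import Cfsg.Agent.LieExceptional.CyclicSylow
import Cfsg.Agent.S0283
import Cfsg.Agent.CpAut.Fix
import Cfsg.Agent.Prune
set_option linter.all false

section
prune_inst 0x7f00000000000000000000000000000000000000000000000000000000000000000000000000000000000000000000000000000000000000000000000000000000000000000000000000000000000000003fffffffffffffffffffffffffffbeffbdffffffff

-- part: H173/RU/Schur
section
set_option linter.all false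
open scoped Cfsg.Agent.FastGrp

-- part: H173/RU/Aut
section
/-!
# Row PSU of S4329: automorphisms of prime order of `PSU n F q` and the elements they centralise
-/

set_option autoImplicit false

namespace Cfsg.Agent.H173.RU

open Cfsg Module Matrix Subgroup
open Cfsg.Agent.LieClassical.HermBasic Cfsg.Agent.LieClassical.HermSiegel
open Cfsg.Agent.ClassicalGeometry.HermOrtho
open Cfsg.Agent.ClassicalGeometry.PSUAutBasic (pr pr_surjective pr_eq_one_iff exists_center_mul)
open Cfsg.Agent.ClassicalGeometry.PSUAutCount (gm gm_mul gm_one gm_mul_inv gm_inv_mul gm_inj herm_gm gm_inv_mulVec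
  gm_mulVec_inv semiConj toAut toAut_pr act_semiConj eq_of_toAut_eq sc gm_sc_mul toAut_sc_mul)
open Cfsg.Agent.CpAutU.Desc (toAut_mul toAut_one)
open Cfsg.Agent.GpUn
open Cfsg.Agent.H568

variable {F : Type*} [Field F] [Fintype F] {q n l k : ℕ}

/-! ### Lifts -/

theorem eq_of_pr_eq (hF : Fintype.card F = q ^ 2) (hn : 3 ≤ n) (hl : l.Coprime (q + 1)) {y y' : SU n F q}
    (hy : y ^ l = 1) (hy' : y' ^ l = 1) (h : pr n F q y = pr n F q y') : y = y' := by
  obtain ⟨z, hz, hz1⟩ := exists_center_mul h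
  have hzc : Commute y z := (mem_center_iff.1 hz) y
  have h1 : y' = y * z := hz1
  have h2 : z ^ l = 1 := by
    rw [h1, hzc.mul_pow, hy, one_mul] at hy'
    exact hy'
  have h3 := eq_one_of_center hF hn hl hz h2
  rw [h1, h3, mul_one]

theorem exists_lift_elt (hF : Fintype.card F = q ^ 2) (hn : 3 ≤ n) (hl : l.Coprime (q + 1)) {z : PSU n F q}
    (hz : z ^ l = 1) : ∃ y : SU n F q, y ^ l = 1 ∧ pr n F q y = z := by
  obtain ⟨g, rfl⟩ := pr_surjective z
  have h1 : g ^ l ∈ center (SU n F q) := by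
    rw [← pr_eq_one_iff, map_pow]
    exact hz
  obtain ⟨j, hj1, hj2⟩ := Nat.chineseRemainder hl 1 0
  refine ⟨g ^ j, ?_, ?_⟩
  · rw [← pow_mul, mul_comm, pow_mul]
    obtain ⟨k, hk⟩ := (Nat.modEq_zero_iff_dvd.1 hj2)
    rw [hk, pow_mul, center_pow hF hn h1, one_pow]
  · rw [map_pow]
    have h3 : pr n F q g ^ j = pr n F q g ^ 1 := by
      rw [pow_eq_pow_iff_modEq]
      exact hj1.of_dvd (orderOf_dvd_of_pow_eq_one hz)
    rw [h3, pow_one]

/-- An element of `SU` fixed modulo the centre by a linear automorphism is centralised by the matrix. -/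
theorem comm_of_fix (hF : Fintype.card F = q ^ 2) (hn : 3 ≤ n) (hl : l.Coprime (q + 1)) {A : GU n F q}
    {y : SU n F q} (hy : y ^ l = 1) (h : toAut A 1 (pr n F q y) = pr n F q y) (v : Fin n → F) :
    gm A *ᵥ act y v = act y (gm A *ᵥ v) := by
  have h1 : pr n F q (semiConj A 1 y) = pr n F q y := h
  have h2 : semiConj A 1 y = y := by
    refine eq_of_pr_eq hF hn hl ?_ hy h1
    rw [← map_pow, hy, map_one]
  have h3 := act_semiConj A 1 y v
  rw [h2] at h3
  exact h3.symm

omit [Fintype F] in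
theorem toAut_eq_one_of_scalar (hn : 3 ≤ n) {A : GU n F q} {c : F}
    (h : ∀ v, gm A *ᵥ v = c • v) : toAut A 1 = 1 := by
  have hc : c * c ^ q = 1 := by
    have h1 := herm_gm A (Pi.single ⟨0, by omega⟩ 1) (Pi.single ⟨0, by omega⟩ 1)
    rw [h, herm_smul_left, herm_smul_right, herm_single_left, Pi.single_eq_same, one_pow] at h1
    linear_combination h1
  have h2 : A = sc n ⟨c, hc⟩ * 1 := by
    apply gm_inj
    rw [gm_sc_mul, gm_one]
    apply Matrix.ext_of_mulVec_single
    intro i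
    rw [h, Matrix.smul_mulVec, one_mulVec]
  rw [h2, toAut_sc_mul, toAut_one]

/-- `A ^ p` is scalar for a linear automorphism of order `p`. -/
theorem exists_scalar_pow (hF : Fintype.card F = q ^ 2) (hn : 3 ≤ n) {p : ℕ} {A : GU n F q}
    (h : toAut A 1 ^ p = 1) : ∃ c : F, c * c ^ q = 1 ∧ gm A ^ p = c • 1 := by
  obtain ⟨-, c, hc1, hc⟩ := Cfsg.Agent.CpAutU.Desc.exists_scalar hF hn h
  refine ⟨c, hc1, ?_⟩
  have h1 : ∀ k : ℕ, ∀ v, (Cfsg.Agent.CpAut.Psl.perm (A : GL (Fin n) F) 1 ^ k) v = gm A ^ k *ᵥ v := by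
    intro k
    induction k with
    | zero => intro v; rw [pow_zero, pow_zero, one_mulVec]; rfl
    | succ k ih =>
      intro v
      rw [pow_succ, Equiv.Perm.mul_apply, ih, pow_succ, ← mulVec_mulVec]
      rfl
  apply Matrix.ext_of_mulVec_single
  intro i
  rw [← h1, hc, Matrix.smul_mulVec, one_mulVec]

/-- If `p` is prime to `q + 1`, a linear automorphism of order `p` is induced by an element of `SU` of order `p`. -/
theorem exists_su (hF : Fintype.card F = q ^ 2) (hn : 3 ≤ n) {p : ℕ} (hp : p.Coprime (q + 1)) {A : GU n F q}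
    (h : toAut A 1 ^ p = 1) :
    ∃ (g : SU n F q) (B : GU n F q), g ^ p = 1 ∧ toAut B 1 = toAut A 1 ∧ (∀ v, gm B *ᵥ v = act g v) ∧
      toAut A 1 = MulAut.conj (pr n F q g) := by
  obtain ⟨c, hc, hA⟩ := exists_scalar_pow hF hn h
  have hcq : c ^ (q + 1) = 1 := by rw [pow_succ', hc]
  have hc0 : c ≠ 0 := by rintro rfl; rw [zero_mul] at hc; exact zero_ne_one hc
  obtain ⟨j, hj1, -⟩ : ∃ j : ℕ, p * j ≡ 1 [MOD (q + 1)] ∧ True := by
    obtain ⟨j, hj⟩ := Nat.exists_mul_mod_eq_one_of_coprime hp (by have := two_le hF; omega)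
    exact ⟨j, by rw [Nat.ModEq, hj.2, Nat.mod_eq_of_lt (by have := two_le hF; omega)], trivial⟩
  set t := c ^ j with ht
  have ht0 : t ≠ 0 := pow_ne_zero _ hc0
  have htp : t ^ p = c := by
    rw [ht, ← pow_mul, mul_comm]
    have h2 : c ^ (p * j) = c ^ 1 := by
      have hu : (Units.mk0 c hc0) ^ (p * j) = (Units.mk0 c hc0) ^ 1 := by
        rw [pow_eq_pow_iff_modEq]
        refine hj1.of_dvd (orderOf_dvd_of_pow_eq_one ?_)
        ext
        simpa using hcq
      simpa using congrArg Units.val hu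
    rw [h2, pow_one]
  have htq : t * t ^ q = 1 := by
    rw [← pow_succ', ht, ← pow_mul, mul_comm, pow_mul, hcq, one_pow]
  have hti : t⁻¹ * (t⁻¹) ^ q = 1 := by rw [inv_pow, ← mul_inv, htq, inv_one]
  obtain ⟨B, hB⟩ : ∃ B : GU n F q, B = sc n ⟨t⁻¹, hti⟩ * A := ⟨_, rfl⟩
  have hgB : gm B = t⁻¹ • gm A := by rw [hB, gm_sc_mul]
  have hBp : (gm B) ^ p = 1 := by
    rw [hgB, smul_pow, hA, inv_pow, htp, smul_smul, inv_mul_cancel₀ hc0, one_smul]
  have hdet : (gm B).det = 1 := by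
    have h2 : (gm B).det ^ p = 1 := by rw [← det_pow, hBp, det_one]
    have h3 : (gm B).det ^ (q + 1) = 1 := by
      have h4 := Cfsg.Agent.LieClassical.GUOrder.det_mul_frob_det hF (gm B) (fun u v => herm_gm B u v)
      exact h4
    have hd0 : (gm B).det ≠ 0 := by
      intro h0
      rw [h0, zero_pow (by omega)] at h3
      exact zero_ne_one h3
    have h5 : orderOf (Units.mk0 _ hd0) ∣ Nat.gcd p (q + 1) := by
      apply Nat.dvd_gcd
      · apply orderOf_dvd_of_pow_eq_one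
        ext
        simpa using h2
      · apply orderOf_dvd_of_pow_eq_one
        ext
        simpa using h3
    rw [hp, Nat.dvd_one, orderOf_eq_one_iff] at h5
    simpa using congrArg Units.val h5
  have hBA : toAut B 1 = toAut A 1 := by rw [hB, toAut_sc_mul]
  refine ⟨mkSU (gm B) hdet (fun u v => herm_gm B u v), B, ?_, hBA, ?_, ?_⟩
  · apply mat_injective
    have h6 : ∀ (g : SU n F q) (k : ℕ), mat (g ^ k) = mat g ^ k := by
      intro g k
      induction k with
      | zero => rw [pow_zero, pow_zero]; rfl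
      | succ k ih => rw [pow_succ, pow_succ, ← ih]; rfl
    rw [h6, mat_mkSU, hBp]
    rfl
  · intro v
    rw [act_def, mat_mkSU]
  · rw [← hBA]
    exact Cfsg.Agent.Schreier.PSU.f₁_eq_conj B (mkSU (gm B) hdet (fun u v => herm_gm B u v)) rfl

/-! ### Conjugates -/

end Cfsg.Agent.H173.RU
end

-- part: H173/RU/Schur
section
/-!
# Row PSU of S4329: linear automorphisms commuting with an irreducible element
-/

set_option autoImplicit false

namespace Cfsg.Agent.H173.RU

open Cfsg Module Matrix Subgroup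
open Cfsg.Agent.LieClassical.HermBasic Cfsg.Agent.LieClassical.HermSiegel
open Cfsg.Agent.ClassicalGeometry.HermOrtho
open Cfsg.Agent.ClassicalGeometry.PSUAutBasic (pr pr_surjective pr_eq_one_iff exists_center_mul)
open Cfsg.Agent.ClassicalGeometry.PSUAutCount (gm gm_mul gm_one gm_mul_inv gm_inv_mul gm_inj herm_gm gm_inv_mulVec
  gm_mulVec_inv semiConj toAut toAut_pr act_semiConj eq_of_toAut_eq sc gm_sc_mul toAut_sc_mul)
open Cfsg.Agent.CpAutU.Desc (toAut_mul toAut_one)
open Cfsg.Agent.GpUn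

variable {F : Type*} [Field F] [Fintype F] {q n l k : ℕ}

omit [Fintype F] in
theorem gm_pow (A : GU n F q) (j : ℕ) : gm (A ^ j) = gm A ^ j := by
  induction j with
  | zero => rw [pow_zero, pow_zero, gm_one]
  | succ j ih => rw [pow_succ, pow_succ, gm_mul, ih]

/-- the action of `GU` -/
@[reducible] def actGU (n : ℕ) (F : Type*) [Field F] (q : ℕ) : MulAction (GU n F q) (Fin n → F) where
  smul A v := gm A *ᵥ v
  one_smul v := by show gm 1 *ᵥ v = v; rw [gm_one, one_mulVec]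
  mul_smul A B v := by show gm (A * B) *ᵥ v = gm A *ᵥ (gm B *ᵥ v); rw [gm_mul, mulVec_mulVec]

/-- the matrix `A` commutes with `y` -/
def Com (A : GU n F q) (y : SU n F q) : Prop := ∀ v, gm A *ᵥ act y v = act y (gm A *ᵥ v)

omit [Fintype F] in
theorem Com.pow {A : GU n F q} {y : SU n F q} (h : Com A y) (j : ℕ) : Com (A ^ j) y := by
  induction j with
  | zero => intro v; rw [pow_zero, gm_one, one_mulVec, one_mulVec]
  | succ j ih => intro v; rw [pow_succ, gm_mul, ← mulVec_mulVec, h, ih, ← mulVec_mulVec]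

/-- the eigenspace -/
def eig (A : GU n F q) (c : F) : Submodule F (Fin n → F) where
  carrier := {v | gm A *ᵥ v = c • v}
  add_mem' := fun {u v} hu hv => by
    show gm A *ᵥ (u + v) = c • (u + v)
    rw [mulVec_add, show gm A *ᵥ u = c • u from hu, show gm A *ᵥ v = c • v from hv, smul_add]
  zero_mem' := by show gm A *ᵥ 0 = c • 0; rw [mulVec_zero, smul_zero]
  smul_mem' := fun a v hv => by
    show gm A *ᵥ (a • v) = c • a • v
    rw [mulVec_smul, show gm A *ᵥ v = c • v from hv, smul_comm]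

omit [Fintype F] in
theorem mem_eig {A : GU n F q} {c : F} {v : Fin n → F} : v ∈ eig A c ↔ gm A *ᵥ v = c • v := Iff.rfl

omit [Fintype F] in
theorem Com.eig_inv {A : GU n F q} {y : SU n F q} (h : Com A y) (c : F) : ∀ u ∈ eig A c, act y u ∈ eig A c := by
  intro u hu
  rw [mem_eig] at hu ⊢
  rw [h, hu, act_smul]

omit [Fintype F] in
theorem Com.fx_inv {A : GU n F q} {y : SU n F q} (h : Com A y) : ∀ u ∈ fx y, gm A *ᵥ u ∈ fx y := by
  intro u hu
  rw [mem_fx] at hu ⊢
  rw [← h, hu]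

/-- An element of type `n`, `n` odd, acts irreducibly. -/
theorem Ty.fx_eq_bot (h : Ty q l n) (hF : Fintype.card F = q ^ 2) {y : SU n F q} (hy : y ^ l = 1) (hy1 : y ≠ 1) :
    fx y = ⊥ := by
  have h1 := h.le_sub hF hy hy1
  apply Submodule.finrank_eq_zero.1
  omega

theorem Ty.irred_top (h : Ty q l n) (hF : Fintype.card F = q ^ 2) (hn : 3 ≤ n) (hodd : Odd n) {y : SU n F q}
    (hy : y ^ l = 1) (hy1 : y ≠ 1) (X : Submodule F (Fin n → F)) (hX : ∀ u ∈ X, act y u ∈ X) (hX0 : X ≠ ⊥) :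
    X = ⊤ := by
  have h0 := h.fx_eq_bot hF hy hy1
  rcases h.irred hF hodd (by omega) hy hy1 X hX with h1 | h1
  · rw [h0] at h1
    exact absurd (le_bot_iff.1 h1) hX0
  · rw [eq_top_iff]
    refine le_trans ?_ h1
    intro v _ w hw
    have h2 : w ∈ fx y := hw
    rw [h0, Submodule.mem_bot] at h2
    rw [h2, herm_zero_right hF]

/-- No eigenvectors for a nonscalar matrix commuting with an element of type `n`. -/
theorem Ty.scalar_of_eigen (h : Ty q l n) (hF : Fintype.card F = q ^ 2) (hn : 3 ≤ n) (hodd : Odd n) {y : SU n F q}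
    (hy : y ^ l = 1) (hy1 : y ≠ 1) {A : GU n F q} (hA : Com A y) {c : F} {v : Fin n → F} (hv : v ≠ 0)
    (hAv : gm A *ᵥ v = c • v) : ∀ w, gm A *ᵥ w = c • w := by
  have h1 := h.irred_top hF hn hodd hy hy1 (eig A c) (hA.eig_inv c) (by
    intro h0
    apply hv
    have h2 : v ∈ eig A c := hAv
    rwa [h0, Submodule.mem_bot] at h2)
  intro w
  have h2 : w ∈ eig A c := by rw [h1]; trivial
  exact h2

theorem Ty.free (h : Ty q l n) (hF : Fintype.card F = q ^ 2) (hn : 3 ≤ n) (hodd : Odd n) {y : SU n F q}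
    (hy : y ^ l = 1) (hy1 : y ≠ 1) {A : GU n F q} (hA : Com A y) (j : ℕ) {v : Fin n → F} (hv : v ≠ 0)
    (hAv : gm (A ^ j) *ᵥ v = v) : A ^ j = 1 := by
  have h1 := h.scalar_of_eigen hF hn hodd hy hy1 (hA.pow j) (c := 1) hv (by rw [hAv, one_smul])
  apply gm_inj
  apply Matrix.ext_of_mulVec_single
  intro i
  rw [h1, gm_one, one_mulVec, one_smul]

/-- **The order of a matrix with semiregular action.** -/
theorem orderOf_dvd_of_semiregular (hF : Fintype.card F = q ^ 2) (A : GU n F q) (X : Submodule F (Fin n → F))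
    (hX : ∀ u ∈ X, gm A *ᵥ u ∈ X)
    (hfree : ∀ (j : ℕ) (v : Fin n → F), v ∈ X → v ≠ 0 → gm (A ^ j) *ᵥ v = v → A ^ j = 1) :
    orderOf A ∣ (q ^ 2) ^ finrank F X - 1 := by
  classical
  have h1 := @orderOf_dvd_of_free (GU n F q) _ _ A (Fin n → F) (actGU n F q) {v : Fin n → F | v ∈ X ∧ v ≠ 0} _ (by
    rintro x ⟨hx, hx0⟩
    refine ⟨hX x hx, ?_⟩
    intro h0
    apply hx0
    have h2 := gm_inv_mulVec A x
    have h0 : gm A *ᵥ x = 0 := h0
    rw [h0, mulVec_zero] at h2
    exact h2.symm) (by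
    rintro j x ⟨hx, hx0⟩ hfix
    exact hfree j x hx hx0 hfix)
  have h2 : Nat.card {v : Fin n → F | v ∈ X ∧ v ≠ 0} = (q ^ 2) ^ finrank F X - 1 := by
    have h3 : Nat.card X = (q ^ 2) ^ finrank F X := by
      rw [Nat.card_eq_fintype_card, Module.card_eq_pow_finrank (K := F), hF]
    have h4 : (X : Set (Fin n → F)) = insert 0 {v : Fin n → F | v ∈ X ∧ v ≠ 0} := by
      ext v
      constructor
      · intro hv
        by_cases h0 : v = 0
        · exact Or.inl h0
        · exact Or.inr ⟨hv, h0⟩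
      · rintro (rfl | hv)
        · exact X.zero_mem
        · exact hv.1
    have h5 : (X : Set (Fin n → F)).ncard = {v : Fin n → F | v ∈ X ∧ v ≠ 0}.ncard + 1 := by
      rw [h4, Set.ncard_insert_of_notMem (fun h => h.2 rfl)]
    have h6 : Nat.card X = (X : Set (Fin n → F)).ncard := rfl
    have h7 : Nat.card {v : Fin n → F | v ∈ X ∧ v ≠ 0} = {v : Fin n → F | v ∈ X ∧ v ≠ 0}.ncard := rfl
    omega
  rwa [h2] at h1

/-- **The order of a matrix commuting with an irreducible element.** -/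
theorem Ty.orderOf_dvd (h : Ty q l n) (hF : Fintype.card F = q ^ 2) (hn : 3 ≤ n) (hodd : Odd n) {y : SU n F q}
    (hy : y ^ l = 1) (hy1 : y ≠ 1) {A : GU n F q} (hA : Com A y) (X : Submodule F (Fin n → F))
    (hX : ∀ u ∈ X, gm A *ᵥ u ∈ X) : orderOf A ∣ (q ^ 2) ^ finrank F X - 1 :=
  orderOf_dvd_of_semiregular hF A X hX fun j _ _ hv0 hfix => h.free hF hn hodd hy hy1 hA j hv0 hfix

theorem Ty.orderOf_dvd_top (h : Ty q l n) (hF : Fintype.card F = q ^ 2) (hn : 3 ≤ n) (hodd : Odd n) {y : SU n F q}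
    (hy : y ^ l = 1) (hy1 : y ≠ 1) {A : GU n F q} (hA : Com A y) : orderOf A ∣ (q ^ 2) ^ n - 1 := by
  have h1 := h.orderOf_dvd hF hn hodd hy hy1 hA ⊤ (fun _ _ => Submodule.mem_top)
  rwa [finrank_top, finrank_fin_fun] at h1

/-- **A matrix of order dividing `q² - 1` commuting with an irreducible element is scalar.** -/
theorem Ty.scalar_of_orderOf (h : Ty q l n) (hF : Fintype.card F = q ^ 2) (hn : 3 ≤ n) (hodd : Odd n) {y : SU n F q}
    (hy : y ^ l = 1) (hy1 : y ≠ 1) {A : GU n F q} (hA : Com A y) (hd : orderOf A ∣ q ^ 2 - 1) : toAut A 1 = 1 := by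
  have hq := two_le hF
  have h0 : A ^ (q ^ 2 - 1) = 1 := orderOf_dvd_iff_pow_eq_one.1 hd
  have h1 : gm A ^ q ^ 2 = gm A := by
    rw [← gm_pow]
    congr 1
    have h2 : 1 ≤ q ^ 2 := Nat.one_le_pow _ _ (by omega)
    rw [← Nat.sub_add_cancel h2, pow_succ, h0, one_mul]
  have hnt : Nontrivial (Fin n → F) := by
    have : Nonempty (Fin n) := ⟨⟨0, by omega⟩⟩
    infer_instance
  obtain ⟨c, v, hv, hc⟩ := exists_eigen (V := Fin n → F) (Matrix.toLin' (gm A)) (by
    rw [← Matrix.toLin'_pow, hF, h1])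
  rw [Matrix.toLin'_apply] at hc
  exact toAut_eq_one_of_scalar hn (h.scalar_of_eigen hF hn hodd hy hy1 hA hv hc)

/-- **Invariant subspaces.** -/
theorem Ty.scalar_of_inv (h : Ty q l n) (hF : Fintype.card F = q ^ 2) (hn : 3 ≤ n) (hodd : Odd n) {y : SU n F q}
    (hy : y ^ l = 1) (hy1 : y ≠ 1) {A : GU n F q} (hA : Com A y) (X : Submodule F (Fin n → F))
    (hX : ∀ u ∈ X, gm A *ᵥ u ∈ X) (hcop : Nat.Coprime n (finrank F X)) : toAut A 1 = 1 := by
  have h1 := h.orderOf_dvd hF hn hodd hy hy1 hA X hX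
  have h2 := h.orderOf_dvd_top hF hn hodd hy hy1 hA
  have h3 := Nat.dvd_gcd h2 h1
  rw [Nat.pow_sub_one_gcd_pow_sub_one, hcop, pow_one] at h3
  exact h.scalar_of_orderOf hF hn hodd hy hy1 hA h3

end Cfsg.Agent.H173.RU
end
end

-- part: H173/RU/Main
section
set_option linter.all false
open scoped Cfsg.Agent.FastGrp

-- part: H173/RU/Even
section
/-!
# Row PSU of S4329: linear automorphisms of order `p`, prime to the characteristic; `n` even
-/

set_option autoImplicit false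

namespace Cfsg.Agent.H173.RU

open Cfsg Module Matrix Subgroup
open Cfsg.Agent.LieClassical.HermBasic Cfsg.Agent.LieClassical.HermSiegel
open Cfsg.Agent.ClassicalGeometry.HermOrtho
open Cfsg.Agent.ClassicalGeometry.PSUAutBasic (pr pr_surjective pr_eq_one_iff exists_center_mul)
open Cfsg.Agent.ClassicalGeometry.PSUAutCount (gm gm_mul gm_one gm_mul_inv gm_inv_mul gm_inj herm_gm gm_inv_mulVec
  gm_mulVec_inv semiConj toAut toAut_pr act_semiConj eq_of_toAut_eq sc gm_sc_mul toAut_sc_mul)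
open Cfsg.Agent.CpAutU.Desc (toAut_mul toAut_one)
open Cfsg.Agent.GpUn
open Cfsg.Agent.H568

variable {F : Type*} [Field F] [Fintype F] {q n l k : ℕ}

/-- An element of `PSU` fixed by a linear automorphism lifts to an element commuting with the matrix. -/
theorem exists_com (hF : Fintype.card F = q ^ 2) (hn : 3 ≤ n) (hl : l.Coprime (q + 1)) {A : GU n F q}
    {z : PSU n F q} (hz : z ^ l = 1) (hz1 : z ≠ 1) (hfix : toAut A 1 z = z) :
    ∃ y : SU n F q, y ^ l = 1 ∧ y ≠ 1 ∧ Com A y := by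
  obtain ⟨y, hy, rfl⟩ := exists_lift_elt hF hn hl hz
  refine ⟨y, hy, ?_, comm_of_fix hF hn hl hy hfix⟩
  rintro rfl
  exact hz1 (map_one _)

/-- **The third alternative of `row_of`.** -/
theorem third_of (hF : Fintype.card F = q ^ 2) (hn : 3 ≤ n) (hl : l.Prime) (hcop : l.Coprime (q + 1))
    {y : SU n F q} (hy : y ^ l = 1) (hy1 : y ≠ 1) {p : ℕ} [hp : Fact p.Prime] (hlp : l ≠ p)
    (hP : PCent p (pr n F q y)) {a : MulAut (PSU n F q)}
    (hfree : ∀ z : PSU n F q, z ^ l = 1 → z ≠ 1 → a z ≠ z) :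
    ∃ x : PSU n F q, ¬ p ∣ orderOf x ∧ PCent p x ∧ ∀ g : MulAut (PSU n F q), (g * a * g⁻¹) x ≠ x := by
  have h1 : pr n F q y ^ l = 1 := by rw [← map_pow, hy, map_one]
  have h2 : pr n F q y ≠ 1 := fun h => hy1 (eq_one_of_center hF hn hcop (pr_eq_one_iff.1 h) hy)
  refine ⟨pr n F q y, ?_, hP, ?_⟩
  · rw [@orderOf_eq_prime _ _ _ _ ⟨hl⟩ h1 h2]
    exact fun h => hlp ((Nat.prime_dvd_prime_iff_eq hp.1 hl).1 h).symm
  · intro g hg
    apply hfree (g⁻¹ (pr n F q y))
    · rw [← map_pow, h1, map_one]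
    · intro h3
      apply h2
      have h4 := congrArg g h3
      rwa [MulAut.apply_inv_self, map_one] at h4
    · rw [MulAut.mul_apply, MulAut.mul_apply] at hg
      have h4 := congrArg (g⁻¹ : MulAut (PSU n F q)) hg
      rwa [MulAut.inv_apply_self] at h4

/-- The third alternative for a prime `l` of type `k`. -/
theorem Ty.third (h : Ty q l k) (hF : Fintype.card F = q ^ 2) (hn : 3 ≤ n) (hk : 2 ≤ k) (hkn : k ≤ n) (hnl : n < l)
    {p : ℕ} [hp : Fact p.Prime] (hp2 : p ≠ 2) (hpF : (p : F) ≠ 0) (hlp : l ≠ p) {a : MulAut (PSU n F q)}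
    (hfree : ∀ z : PSU n F q, z ^ l = 1 → z ≠ 1 → a z ≠ z) :
    ∃ x : PSU n F q, ¬ p ∣ orderOf x ∧ PCent p x ∧ ∀ g : MulAut (PSU n F q), (g * a * g⁻¹) x ≠ x := by
  obtain ⟨y, hy⟩ := h.exists_elt hF hk hkn
  have hyl : y ^ l = 1 := by rw [← hy]; exact pow_orderOf_eq_one y
  have hy1 : y ≠ 1 := by
    rintro rfl
    rw [orderOf_one] at hy
    exact h.prime.one_lt.ne hy
  exact third_of hF hn h.prime (h.coprime_succ (by have := two_le hF; omega) hk) hyl hy1 hlp
    (pcent_pr hp2 hpF h.prime hlp hnl hyl) hfree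

/-- The type is unique. -/
theorem Ty.unique {k' : ℕ} (h : Ty q l k) (h' : Ty q l k') : k = k' := by rw [← h.ord, ← h'.ord]

/-- The fixed space of an element of type `n - 1` is a line. -/
theorem Ty.exists_line (h : Ty q l (n - 1)) (hF : Fintype.card F = q ^ 2) (hn : 4 ≤ n) (hodd : Odd (n - 1))
    {y : SU n F q} (hy : y ^ l = 1) (hy1 : y ≠ 1) : ∃ u ∈ fx y, u ≠ 0 ∧ ∀ w ∈ fx y, ∃ c : F, w = c • u := by
  have h1 := h.finrank_fx hF hodd (by omega) hy hy1
  have h2 : finrank F (fx y) = 1 := by omega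
  obtain ⟨u, hu, hu2⟩ := finrank_eq_one_iff'.1 h2
  refine ⟨u, u.2, fun h0 => hu (Subtype.ext h0), fun w hw => ?_⟩
  obtain ⟨c, hc⟩ := hu2 ⟨w, hw⟩
  exact ⟨c, (congrArg Subtype.val hc).symm⟩

/-- Elements of type `n - 1` and `n` do not commute. -/
theorem no_comm_pred {l₁ l₂ : ℕ} (h1 : Ty q l₁ (n - 1)) (h2 : Ty q l₂ n) (hF : Fintype.card F = q ^ 2) (hn : 4 ≤ n)
    (hodd : Odd (n - 1)) {y₁ y₂ : SU n F q} (hy₁ : y₁ ^ l₁ = 1) (hy₁1 : y₁ ≠ 1) (hy₂ : y₂ ^ l₂ = 1) (hy₂1 : y₂ ≠ 1)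
    (hc : ∀ v, act y₁ (act y₂ v) = act y₂ (act y₁ v)) : False := by
  obtain ⟨u, hu, hu0, hline⟩ := h1.exists_line hF hn hodd hy₁ hy₁1
  obtain ⟨c, hc'⟩ := hline (act y₂ u) (by rw [mem_fx, hc, mem_fx.1 hu])
  exact h2.no_eigen hF (by omega) hy₂ hy₂1 hu0 c hc'

/-- A matrix commuting with elements of type `n - 1` and `n` is scalar. -/
theorem scalar_of_both {l₁ l₂ : ℕ} (h1 : Ty q l₁ (n - 1)) (h2 : Ty q l₂ n) (hF : Fintype.card F = q ^ 2) (hn : 4 ≤ n)
    (hodd : Odd (n - 1)) {y₁ y₂ : SU n F q} (hy₁ : y₁ ^ l₁ = 1) (hy₁1 : y₁ ≠ 1) (hy₂ : y₂ ^ l₂ = 1) (hy₂1 : y₂ ≠ 1)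
    {A : GU n F q} (hA1 : Com A y₁) (hA2 : Com A y₂) : toAut A 1 = 1 := by
  obtain ⟨u, hu, hu0, hline⟩ := h1.exists_line hF hn hodd hy₁ hy₁1
  obtain ⟨c, hc⟩ := hline (gm A *ᵥ u) (hA1.fx_inv u hu)
  have hE : u ∈ eig A c := hc
  rcases h1.irred hF hodd (by omega) hy₁ hy₁1 (eig A c) (hA1.eig_inv c) with h3 | h3
  · exfalso
    obtain ⟨d, hd⟩ := hline (act y₂ u) (h3 (hA2.eig_inv c u hE))
    exact h2.no_eigen hF (by omega) hy₂ hy₂1 hu0 d hd
  · apply toAut_eq_one_of_scalar (by omega) (c := c)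
    intro v
    have hnd := nd_fx hF (natCast_ne_zero (F := F) hF h1.prime h1.not_dvd) hy₁
    obtain ⟨a, ha, b, hb, rfl⟩ := exists_add_perp hF (fx y₁) hnd v
    have h4 : a + b ∈ eig A c := by
      apply Submodule.add_mem _ _ (h3 hb)
      obtain ⟨d, rfl⟩ := hline a ha
      exact Submodule.smul_mem _ _ hE
    exact h4

omit [Fintype F] in
theorem com_comm {g y : SU n F q} {B : GU n F q} (hB : ∀ v, gm B *ᵥ v = act g v) (h : Com B y) (v : Fin n → F) :
    act g (act y v) = act y (act g v) := by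
  rw [← hB, ← hB, h]

/-- **Linear automorphisms, `n` even.** -/
theorem even_case (hF : Fintype.card F = q ^ 2) (hn : Even n) (hn4 : 4 ≤ n) (h42 : ¬ (n = 4 ∧ q = 2)) {p : ℕ}
    [hp : Fact p.Prime] (hp2 : p ≠ 2) (hpF : (p : F) ≠ 0) {A : GU n F q} (ha : orderOf (toAut A 1) = p) :
    ∃ x : PSU n F q, ¬ p ∣ orderOf x ∧ PCent p x ∧ ∀ g : MulAut (PSU n F q), (g * toAut A 1 * g⁻¹) x ≠ x := by
  have hq := two_le hF
  obtain ⟨r, f, hr, hch, hqr, hf⟩ := exists_prime_pow hF
  have hodd : Odd (n - 1) := by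
    obtain ⟨a, ha⟩ := hn
    exact ⟨a - 1, by omega⟩
  obtain ⟨l₁, h1, -, hl1, -⟩ := exists_odd hr hf hqr hodd (by omega) (by omega)
  obtain ⟨l₂, h2, hl2⟩ := exists_even hr hf hqr hn hn4
  have hne : toAut A 1 ≠ 1 := by
    intro h
    rw [h, orderOf_one] at ha
    exact hp.1.one_lt.ne ha
  have hap : toAut A 1 ^ p = 1 := by rw [← ha]; exact pow_orderOf_eq_one _
  have hc1 := h1.coprime_succ (by omega) (by omega)
  have hc2 := h2.coprime_succ (by omega) (by omega)
  by_cases hp1 : l₁ = p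
  · -- `p = l₁`
    subst hp1
    refine h2.third hF (by omega) (by omega) le_rfl hl2 hp2 hpF (fun h => ?_) ?_
    · rw [h] at h2
      have := h1.unique h2
      omega
    · intro z hz hz1 hfix
      obtain ⟨g, B, hg, hBA, hBg, hgA⟩ := exists_su hF (by omega) hc1 hap
      rw [← hBA] at hfix
      obtain ⟨y, hy, hy1, hcom⟩ := exists_com hF (by omega) hc2 hz hz1 hfix
      exact no_comm_pred h1 h2 hF hn4 hodd hg (by rintro rfl; rw [map_one, map_one] at hgA; exact hne hgA) hy hy1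
        (com_comm hBg hcom)
  by_cases hp3 : l₂ = p
  · -- `p = l₂`
    subst hp3
    refine h1.third hF (by omega) (by omega) (by omega) (by omega) hp2 hpF hp1 ?_
    intro z hz hz1 hfix
    obtain ⟨g, B, hg, hBA, hBg, hgA⟩ := exists_su hF (by omega) hc2 hap
    rw [← hBA] at hfix
    obtain ⟨y, hy, hy1, hcom⟩ := exists_com hF (by omega) hc1 hz hz1 hfix
    exact no_comm_pred h1 h2 hF hn4 hodd hy hy1 hg (by rintro rfl; rw [map_one, map_one] at hgA; exact hne hgA)
      (fun v => (com_comm hBg hcom v).symm)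
  · by_cases hfree : ∀ z : PSU n F q, z ^ l₁ = 1 → z ≠ 1 → toAut A 1 z ≠ z
    · exact h1.third hF (by omega) (by omega) (by omega) (by omega) hp2 hpF hp1 hfree
    · push Not at hfree
      obtain ⟨z, hz, hz1, hfix⟩ := hfree
      obtain ⟨y, hy, hy1, hcom⟩ := exists_com hF (by omega) hc1 hz hz1 hfix
      refine h2.third hF (by omega) (by omega) le_rfl hl2 hp2 hpF hp3 ?_
      intro z' hz' hz'1 hfix'
      obtain ⟨y', hy', hy'1, hcom'⟩ := exists_com hF (by omega) hc2 hz' hz'1 hfix'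
      exact hne (scalar_of_both h1 h2 hF hn4 hodd hy hy1 hy' hy'1 hcom hcom')

end Cfsg.Agent.H173.RU
end

-- part: H173/RU/Odd
section
/-!
# Row PSU of S4329: linear automorphisms of order `p`, prime to the characteristic; `n` odd
-/

set_option autoImplicit false

namespace Cfsg.Agent.H173.RU

open Cfsg Module Matrix Subgroup
open Cfsg.Agent.LieClassical.HermBasic Cfsg.Agent.LieClassical.HermSiegel
open Cfsg.Agent.ClassicalGeometry.HermOrtho
open Cfsg.Agent.ClassicalGeometry.PSUAutBasic (pr pr_surjective pr_eq_one_iff exists_center_mul)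
open Cfsg.Agent.ClassicalGeometry.PSUAutCount (gm gm_mul gm_one gm_mul_inv gm_inv_mul gm_inj herm_gm gm_inv_mulVec
  gm_mulVec_inv semiConj toAut toAut_pr act_semiConj eq_of_toAut_eq sc gm_sc_mul toAut_sc_mul)
open Cfsg.Agent.CpAutU.Desc (toAut_mul toAut_one)
open Cfsg.Agent.GpUn
open Cfsg.Agent.H568

section

variable {F : Type*} [Field F] [Fintype F] {q n l k : ℕ}

/-- Elements of type `n - 2` and `n` do not commute. -/
theorem no_comm_two {l₁ l₂ : ℕ} (h1 : Ty q l₁ n) (h2 : Ty q l₂ (n - 2)) (hF : Fintype.card F = q ^ 2) (hn : 5 ≤ n)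
    (hodd : Odd n) {y₁ y₂ : SU n F q} (hy₁ : y₁ ^ l₁ = 1) (hy₁1 : y₁ ≠ 1) (hy₂ : y₂ ^ l₂ = 1) (hy₂1 : y₂ ≠ 1)
    (hc : ∀ v, act y₁ (act y₂ v) = act y₂ (act y₁ v)) : False := by
  have hodd2 : Odd (n - 2) := by
    obtain ⟨a, ha⟩ := hodd
    exact ⟨a - 1, by omega⟩
  have h3 := h2.finrank_fx hF hodd2 (by omega) hy₂ hy₂1
  have h4 := h1.dvd_two_mul hF hy₁ (fx y₂) (fun u hu => by rw [mem_fx] at hu ⊢; rw [← hc, hu])
    (by rw [h1.fx_eq_bot hF hy₁ hy₁1, inf_bot_eq])
  have h5 : finrank F (fx y₂) = 2 := by omega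
  rw [h5] at h4
  have := Nat.le_of_dvd (by norm_num) h4
  omega

/-- **Linear automorphisms, `n ≥ 5` odd.** -/
theorem odd_case (hF : Fintype.card F = q ^ 2) (hn : Odd n) (hn5 : 5 ≤ n) (h52 : ¬ (n = 5 ∧ q = 2)) {p : ℕ}
    [hp : Fact p.Prime] (hp2 : p ≠ 2) (hpF : (p : F) ≠ 0) {A : GU n F q} (ha : orderOf (toAut A 1) = p) :
    ∃ x : PSU n F q, ¬ p ∣ orderOf x ∧ PCent p x ∧ ∀ g : MulAut (PSU n F q), (g * toAut A 1 * g⁻¹) x ≠ x := by
  have hq := two_le hF
  obtain ⟨r, f, hr, hch, hqr, hf⟩ := exists_prime_pow hF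
  have hodd : Odd (n - 2) := by
    obtain ⟨a, ha⟩ := hn
    exact ⟨a - 1, by omega⟩
  obtain ⟨l₁, h1, -, hl1, -⟩ := exists_odd hr hf hqr hn (by omega) (by omega)
  obtain ⟨l₂, h2, -, hl2, -⟩ := exists_odd hr hf hqr hodd (by omega) (by omega)
  have hne : toAut A 1 ≠ 1 := by
    intro h
    rw [h, orderOf_one] at ha
    exact hp.1.one_lt.ne ha
  have hap : toAut A 1 ^ p = 1 := by rw [← ha]; exact pow_orderOf_eq_one _
  have hc1 := h1.coprime_succ (by omega) (by omega)
  have hc2 := h2.coprime_succ (by omega) (by omega)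
  by_cases hp1 : l₁ = p
  · -- `p = l₁`
    subst hp1
    refine h2.third hF (by omega) (by omega) (by omega) (by omega) hp2 hpF (fun h => ?_) ?_
    · rw [h] at h2
      have := h1.unique h2
      omega
    · intro z hz hz1 hfix
      obtain ⟨g, B, hg, hBA, hBg, hgA⟩ := exists_su hF (by omega) hc1 hap
      rw [← hBA] at hfix
      obtain ⟨y, hy, hy1, hcom⟩ := exists_com hF (by omega) hc2 hz hz1 hfix
      exact no_comm_two h1 h2 hF hn5 hn hg (by rintro rfl; rw [map_one, map_one] at hgA; exact hne hgA) hy hy1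
        (com_comm hBg hcom)
  by_cases hp3 : l₂ = p
  · -- `p = l₂`
    subst hp3
    refine h1.third hF (by omega) (by omega) (by omega) (by omega) hp2 hpF hp1 ?_
    intro z hz hz1 hfix
    obtain ⟨g, B, hg, hBA, hBg, hgA⟩ := exists_su hF (by omega) hc2 hap
    rw [← hBA] at hfix
    obtain ⟨y, hy, hy1, hcom⟩ := exists_com hF (by omega) hc1 hz hz1 hfix
    exact no_comm_two h1 h2 hF hn5 hn hy hy1 hg (by rintro rfl; rw [map_one, map_one] at hgA; exact hne hgA)
      (fun v => (com_comm hBg hcom v).symm)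
  · by_cases hfree : ∀ z : PSU n F q, z ^ l₁ = 1 → z ≠ 1 → toAut A 1 z ≠ z
    · exact h1.third hF (by omega) (by omega) (by omega) (by omega) hp2 hpF hp1 hfree
    · push Not at hfree
      obtain ⟨z, hz, hz1, hfix⟩ := hfree
      obtain ⟨y, hy, hy1, hcom⟩ := exists_com hF (by omega) hc1 hz hz1 hfix
      refine h2.third hF (by omega) (by omega) (by omega) (by (clear * - hn5 hl2; omega)) hp2 hpF hp3 ?_
      intro z' hz' hz'1 hfix'
      obtain ⟨y', hy', hy'1, hcom'⟩ := exists_com hF (by omega) hc2 hz' hz'1 hfix'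
      have h3 := h2.finrank_fx hF hodd (by omega) hy' hy'1
      have h5 : finrank F (fx y') = 2 := by (clear * - hn5 h3; omega)
      refine hne (h1.scalar_of_inv hF (by omega) hn hy hy1 hcom (fx y') hcom'.fx_inv ?_)
      rw [h5]
      exact (Nat.coprime_two_right).2 hn

/-! ### `n` an odd prime: one element of type `n` -/

/-- The order of a linear automorphism of order `p ∣ q + 1`, `p ∤ n`, commuting with an irreducible element. -/
theorem dvd_of_dvd_succ (hF : Fintype.card F = q ^ 2) {p : ℕ} (hp : p.Prime) (hpq : p ∣ q + 1) (hpn : ¬ p ∣ n) {m : ℕ}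
    (h1 : m ∣ p * (q + 1)) (h2 : m ∣ (q ^ 2) ^ n - 1) : m ∣ q ^ 2 - 1 := by
  have hq := two_le hF
  have h1' : m ∣ (q ^ 2 - 1) * p := by
    refine h1.trans ?_
    have h3 : q ^ 2 - 1 = (q + 1) * (q - 1) := by
      have := Nat.sq_sub_sq q 1
      simpa only [_root_.one_pow] using this
    rw [h3]
    exact ⟨q - 1, by ring⟩
  have h4 := geom_sum_mul_of_one_le (x := q ^ 2) (Nat.one_le_pow _ _ (by omega)) n
  have h2' : m ∣ (q ^ 2 - 1) * ∑ i ∈ Finset.range n, (q ^ 2) ^ i := by rwa [mul_comm, h4]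
  have h5 := Nat.dvd_gcd h1' h2'
  rw [Nat.gcd_mul_left] at h5
  have h6 : Nat.gcd p (∑ i ∈ Finset.range n, (q ^ 2) ^ i) = 1 := by
    rw [← Nat.coprime_iff_gcd_eq_one, Nat.Prime.coprime_iff_not_dvd hp]
    intro h7
    apply hpn
    have := Fact.mk hp
    rw [← ZMod.natCast_eq_zero_iff] at h7 ⊢
    have h8 : (q : ZMod p) = -1 := by
      have h9 : ((q + 1 : ℕ) : ZMod p) = 0 := (ZMod.natCast_eq_zero_iff _ _).2 hpq
      push_cast at h9
      exact eq_neg_of_add_eq_zero_left h9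
    push_cast at h7
    rw [h8] at h7
    simpa only [_root_.even_two, _root_.Even.neg_pow, _root_.one_pow, _root_.Finset.sum_const, _root_.Finset.card_range, _root_.nsmul_eq_mul, _root_.mul_one] using h7
  rwa [h6, mul_one] at h5

theorem Ty.exists_of_not_dvd {p : ℕ} (hp : p.Prime) (hpq : ¬ p ∣ q) : ∃ k, Ty q p k := by
  have := Fact.mk hp
  refine ⟨_, hp, rfl, ?_⟩
  have h1 : (-(q : ZMod p)) ≠ 0 := by
    rw [neg_ne_zero]
    intro h0
    exact hpq ((ZMod.natCast_eq_zero_iff _ _).1 h0)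
  exact orderOf_pos_iff.2 (isOfFinOrder_iff_pow_eq_one.2 ⟨p - 1, by have := hp.two_le; omega, ZMod.pow_card_sub_one_eq_one h1⟩)

theorem scalar_pow_orderOf (hF : Fintype.card F = q ^ 2) (hn : 3 ≤ n) {p : ℕ} {A : GU n F q}
    (h : toAut A 1 ^ p = 1) : orderOf A ∣ p * (q + 1) := by
  obtain ⟨c, hc, hA⟩ := exists_scalar_pow hF hn h
  apply orderOf_dvd_of_pow_eq_one
  apply gm_inj
  rw [gm_pow, pow_mul, hA, smul_pow, one_pow, pow_succ', hc, one_smul, gm_one]

/-- **Linear automorphisms, `n` an odd prime, not `p = n ∣ q + 1`**: an element of type `n` is enough. -/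
theorem Ty.prime_free (h : Ty q l n) (hF : Fintype.card F = q ^ 2) (hn : n.Prime) (hn3 : 3 ≤ n) {p : ℕ}
    [hp : Fact p.Prime] (hpq : ¬ p ∣ q) (hpn : ¬ (p = n ∧ p ∣ q + 1)) (hty : ¬ Ty q p n) {A : GU n F q}
    (ha : orderOf (toAut A 1) = p) (z : PSU n F q) (hz : z ^ l = 1) (hz1 : z ≠ 1) : toAut A 1 z ≠ z := by
  intro hfix
  have hq := two_le hF
  have hodd : Odd n := hn.odd_of_ne_two (by omega)
  have hne : toAut A 1 ≠ 1 := by
    intro h
    rw [h, orderOf_one] at ha
    exact hp.1.one_lt.ne ha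
  have hap : toAut A 1 ^ p = 1 := by rw [← ha]; exact pow_orderOf_eq_one _
  have hc := h.coprime_succ (by omega) (by omega)
  by_cases h1 : p ∣ q + 1
  · obtain ⟨y, hy, hy1, hcom⟩ := exists_com hF hn3 hc hz hz1 hfix
    apply hne
    apply h.scalar_of_orderOf hF hn3 hodd hy hy1 hcom
    apply dvd_of_dvd_succ (n := n) hF hp.1 h1 (fun h3 => ?_) (scalar_pow_orderOf hF hn3 hap)
      (h.orderOf_dvd_top hF hn3 hodd hy hy1 hcom)
    exact hpn ⟨(Nat.prime_dvd_prime_iff_eq hp.1 hn).1 h3, h1⟩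
  · have hcop : p.Coprime (q + 1) := (Nat.Prime.coprime_iff_not_dvd hp.1).2 h1
    obtain ⟨g, B, hg, hBA, hBg, hgA⟩ := exists_su hF hn3 hcop hap
    rw [← hBA] at hfix hne
    obtain ⟨y, hy, hy1, hcom⟩ := exists_com hF hn3 hc hz hz1 hfix
    have hg1 : g ≠ 1 := by
      rintro rfl
      rw [map_one, map_one, ← hBA] at hgA
      exact hne hgA
    have hBp : B ^ p = 1 := by
      apply gm_inj
      apply Matrix.ext_of_mulVec_single
      intro i
      have h2 : ∀ (j : ℕ) (v : Fin n → F), gm (B ^ j) *ᵥ v = act (g ^ j) v := by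
        intro j
        induction j with
        | zero => intro v; rw [pow_zero, pow_zero, gm_one, one_mulVec, act_one]
        | succ j ih => intro v; rw [pow_succ, pow_succ, gm_mul, ← mulVec_mulVec, hBg, ih, act_mul]
      rw [h2, hg, act_one, gm_one, one_mulVec]
    have hB1 : B ≠ 1 := by
      rintro rfl
      exact hne toAut_one
    have hBo : orderOf B = p := orderOf_eq_prime hBp hB1
    have h3 := h.orderOf_dvd_top hF hn3 hodd hy hy1 hcom
    obtain ⟨k, hk⟩ := Ty.exists_of_not_dvd hp.1 hpq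
    have h4 : k ≤ n := by
      refine hk.le_of_dvd hF (by omega) ?_
      rw [← orderOf_eq_prime hg hg1]
      exact _root_.orderOf_dvd_natCard g
    rw [hBo] at h3
    have h5 := (hk.dvd_sq (by omega) n).1 h3
    -- `k` divides `2`, or `k = n`
    have hkn : k ≠ n := by rintro rfl; exact hty hk
    have h6 : k ∣ 2 := by
      have h7 : Nat.Coprime k n := by
        rw [Nat.coprime_comm, Nat.Prime.coprime_iff_not_dvd hn]
        intro h8
        have := Nat.le_of_dvd hk.pos h8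
        omega
      exact h7.dvd_of_dvd_mul_right h5
    apply hne
    apply h.scalar_of_orderOf hF hn3 hodd hy hy1 hcom
    rw [hBo]
    have h7 := (hk.dvd_sq (by omega) 1).2 (by rwa [mul_one])
    rwa [pow_one] at h7

/-- **The first alternative** -/
theorem Ty.first {F : Type*} [Field F] [Fintype F] {q n : ℕ} {p : ℕ} [hp : Fact p.Prime] (h : Ty q p n)
    (hF : Fintype.card F = q ^ 2) (hn : 3 ≤ n) (hodd : Odd n) {A : GU n F q} (ha : orderOf (toAut A 1) = p) :
    (∃ s : PSU n F q, toAut A 1 = MulAut.conj s) ∧ ∃ P : Sylow p (PSU n F q), IsCyclic ↥(P : Subgroup (PSU n F q)) := by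
  have hq := two_le hF
  have hap : toAut A 1 ^ p = 1 := by rw [← ha]; exact pow_orderOf_eq_one _
  have hc := h.coprime_succ (by omega) (by omega)
  obtain ⟨g, B, hg, hBA, hBg, hgA⟩ := exists_su hF hn hc hap
  refine ⟨⟨_, hgA⟩, ?_⟩
  obtain ⟨P⟩ : Nonempty (Sylow p (PSU n F q)) := inferInstance
  refine ⟨P, ?_⟩
  obtain ⟨Q, hQ, hQP, -⟩ := exists_lift_pgroup (pr n F q) pr_surjective ker_pr P.isPGroup'
  have : NeZero n := ⟨by omega⟩
  have hcyc : IsCyclic Q := by
    refine LieExceptional.CyclicSylow.isCyclic_of_isPGroup_of_hom_GL (F := F) (n := n) (p := p) ?_ ?_ hQ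
      ((incGL n F q).comp Q.subtype) (incGL_injective.comp Subtype.val_injective)
    · rw [Nat.card_eq_fintype_card, hF]
      intro h1
      exact h.not_dvd (hp.1.dvd_of_dvd_pow h1)
    · intro i hi hin h1
      rw [Nat.card_eq_fintype_card, hF, h.dvd_sq (by omega)] at h1
      have h2 : n ∣ i := ((Nat.coprime_two_right).2 hodd).dvd_of_dvd_mul_left h1
      have := Nat.le_of_dvd hi h2
      omega
  rw [← hQP]
  exact isCyclic_of_surjective ((pr n F q).subgroupMap Q) ((pr n F q).subgroupMap_surjective Q)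

end

end Cfsg.Agent.H173.RU
end

-- part: H173/RU/Small
section
/-!
# Row PSU of S4329: `PSU_3(q)` and `PSU_4(2)`
-/

set_option autoImplicit false

namespace Cfsg.Agent.H173.RU

open Cfsg Module Matrix Subgroup
open Cfsg.Agent.LieClassical.HermBasic Cfsg.Agent.LieClassical.HermSiegel
open Cfsg.Agent.ClassicalGeometry.HermOrtho
open Cfsg.Agent.ClassicalGeometry.PSUAutBasic (pr pr_surjective pr_eq_one_iff exists_center_mul)
open Cfsg.Agent.ClassicalGeometry.UnitAutBasic (mem_center_of_scalar)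
open Cfsg.Agent.ClassicalGeometry.PSUAutCount (gm gm_mul gm_one gm_mul_inv gm_inv_mul gm_inj herm_gm gm_inv_mulVec
  gm_mulVec_inv semiConj toAut toAut_pr act_semiConj eq_of_toAut_eq sc gm_sc_mul toAut_sc_mul)
open Cfsg.Agent.CpAutU.Desc (toAut_mul toAut_one)
open Cfsg.Agent.GpUn
open Cfsg.Agent.H568

variable {F : Type*} [Field F] [Fintype F] {q n l k : ℕ}

/-! ### `PSU_3(q)`, `p = 3` dividing `q + 1` -/

/-- the eigenspaces of an element of `SU` -/
def eigS (y : SU n F q) (c : F) : Submodule F (Fin n → F) where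
  carrier := {v | act y v = c • v}
  add_mem' := fun {u v} hu hv => by
    show act y (u + v) = c • (u + v)
    rw [act_add, show act y u = c • u from hu, show act y v = c • v from hv, smul_add]
  zero_mem' := by show act y 0 = c • 0; rw [act_zero, smul_zero]
  smul_mem' := fun a v hv => by
    show act y (a • v) = c • a • v
    rw [act_smul, show act y v = c • v from hv, smul_comm]

omit [Fintype F] in
theorem mem_eigS {y : SU n F q} {c : F} {v : Fin n → F} : v ∈ eigS y c ↔ act y v = c • v := Iff.rfl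

/-- A matrix commuting with an element of type `3` and with a nonscalar element with an eigenvector is scalar. -/
theorem Ty.scalar_three (h : Ty q l 3) (hF : Fintype.card F = q ^ 2) {y₁ : SU 3 F q} (hy₁ : y₁ ^ l = 1)
    (hy₁1 : y₁ ≠ 1) {A : GU 3 F q} (hA : Com A y₁) {m : ℕ} (hm : m.Coprime (q + 1)) {y : SU 3 F q} (hy : y ^ m = 1)
    (hy1 : y ≠ 1) (hA' : Com A y) {c : F} {v : Fin 3 → F} (hv : v ≠ 0) (hyv : act y v = c • v) : toAut A 1 = 1 := by
  apply h.scalar_of_inv hF le_rfl ⟨1, rfl⟩ hy₁ hy₁1 hA (eigS y c)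
  · intro u hu
    rw [mem_eigS] at hu ⊢
    rw [← hA', hu, mulVec_smul]
  · have h1 : finrank F (eigS y c) ≠ 0 := by
      intro h0
      apply hv
      have h2 : v ∈ eigS y c := hyv
      rwa [Submodule.finrank_eq_zero.1 h0, Submodule.mem_bot] at h2
    have h2 : finrank F (eigS y c) ≠ 3 := by
      intro h0
      apply hy1
      have h3 : eigS y c = ⊤ := by
        apply Submodule.eq_top_of_finrank_eq
        rw [h0, finrank_fin_fun]
      refine eq_one_of_center hF le_rfl hm (mem_center_of_scalar (c := c) fun w => ?_) hy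
      have h4 : w ∈ eigS y c := by rw [h3]; trivial
      exact h4
    have h3 : finrank F (eigS y c) ≤ 3 := by
      have := Submodule.finrank_le (eigS y c)
      rwa [finrank_fin_fun] at this
    have h4 : finrank F (eigS y c) = 1 ∨ finrank F (eigS y c) = 2 := by omega
    rcases h4 with h4 | h4 <;> rw [h4] <;> norm_num

theorem card_three (hF : Fintype.card F = q ^ 2) :
    (q + 1) * Nat.card (Cfsg.SU 3 F q) = q ^ 3 * ((q + 1) * (q ^ 2 - 1) * (q ^ 3 + 1)) := by
  have h1 := Cfsg.Agent.S0278.result hF 3 (by omega)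
  rw [h1]
  norm_num only [Finset.prod_range_succ, Nat.even_add_one, _root_.Finset.range_one, _root_.Finset.prod_singleton, _root_.pow_one, _root_.ite_true, _root_.ite_false]

/-- The second prime. -/
theorem exists_second (hF : Fintype.card F = q ^ 2) (hq2 : q ≠ 2) (h3 : 3 ∣ q + 1) :
    ∃ m : ℕ, m.Prime ∧ 3 < m ∧ m.Coprime (q + 1) ∧ (∃ y : SU 3 F q, orderOf y = m) ∧
      ∀ y : SU 3 F q, y ^ m = 1 → ∃ (c : F) (v : Fin 3 → F), v ≠ 0 ∧ act y v = c • v := by
  have hq := two_le hF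
  obtain ⟨r, f, hr, hch, hqr, hf⟩ := exists_prime_pow hF
  have := Fact.mk hr
  have hrq : r ∣ q := by rw [hqr]; exact dvd_pow_self r hf.ne'
  have hcop0 : Nat.Coprime q (q + 1) := by simp
  have hr3 : r ≠ 3 := by
    rintro rfl
    have h4 := Nat.dvd_gcd hrq h3
    rw [hcop0] at h4
    omega
  have hcard := card_three hF
  rcases eq_or_ne r 2 with hr2 | hr2
  · -- characteristic `2`
    subst hr2
    have hfo : Odd f := by
      rw [← Nat.not_even_iff_odd]
      rintro ⟨a, ha⟩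
      rw [hqr, ha, ← two_mul, pow_mul, ← Nat.modEq_zero_iff_dvd] at h3
      have h4 : (2 ^ 2) ^ a + 1 ≡ 1 ^ a + 1 [MOD 3] := (Nat.ModEq.pow a (by decide : 2 ^ 2 ≡ 1 [MOD 3])).add_right 1
      have h5 := h4.symm.trans h3
      rw [one_pow] at h5
      exact absurd h5 (by decide)
    have hf3 : 3 ≤ f := by
      obtain ⟨b, hb⟩ := hfo
      rcases Nat.eq_zero_or_pos b with rfl | hb0
      · exfalso
        apply hq2
        rw [hqr, hb]
        norm_num
      · omega
    have h8 : 8 ≤ q := by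
      rw [hqr]
      calc 8 = 2 ^ 3 := by norm_num
        _ ≤ 2 ^ f := Nat.pow_le_pow_right (by norm_num) hf3
    have hm := Nat.minFac_prime (n := q - 1) (by (clear * - h8; omega))
    have hmd := Nat.minFac_dvd (q - 1)
    set m := (q - 1).minFac with hmdef
    have hm2 : m ≠ 2 := by
      intro h
      rw [h] at hmd
      have h4 : 2 ∣ q := hrq
      (clear * - hrq h8 hmd; omega)
    have hm3 : m ≠ 3 := by
      intro h
      rw [h] at hmd
      omega
    have hcop : m.Coprime (q + 1) := by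
      rw [Nat.Prime.coprime_iff_not_dvd hm]
      intro h4
      have h5 : m ∣ 2 := by
        have h6 := Nat.dvd_sub h4 hmd
        have h7 : q + 1 - (q - 1) = 2 := by (clear * - h8; omega)
        rwa [h7] at h6
      exact hm2 ((Nat.prime_dvd_prime_iff_eq hm Nat.prime_two).1 h5)
    refine ⟨m, hm, ?_, hcop, ?_, ?_⟩
    · have := hm.two_le
      omega
    · have := Fact.mk hm
      apply exists_prime_orderOf_dvd_card' m
      have h4 : m ∣ (q + 1) * Nat.card (Cfsg.SU 3 F q) := by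
        rw [hcard]
        apply Dvd.dvd.mul_left
        apply Dvd.dvd.mul_right
        apply Dvd.dvd.mul_left
        have h5 : q ^ 2 - 1 = (q + 1) * (q - 1) := by
          have := Nat.sq_sub_sq q 1
          simpa only [_root_.one_pow] using this
        rw [h5]
        exact Dvd.dvd.mul_left hmd _
      exact hcop.dvd_of_dvd_mul_left h4
    · intro y hy
      have h4 : q ^ 2 = 1 + m * ((q - 1) / m * (q + 1)) := by
        have h5 : m * ((q - 1) / m * (q + 1)) = (q - 1) * (q + 1) := by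
          rw [← mul_assoc, Nat.mul_div_cancel' hmd]
        rw [h5]
        obtain ⟨q', rfl⟩ : ∃ q', q = q' + 1 := ⟨q - 1, by (clear * - h8; omega)⟩
        rw [Nat.add_sub_cancel]
        ring
      have h5 : y ^ q ^ 2 = y := by
        rw [h4, pow_add, pow_mul, hy, one_pow, pow_one, mul_one]
      have h6 : ∀ (g : SU 3 F q) (k : ℕ), mat (g ^ k) = mat g ^ k := by
        intro g k
        induction k with
        | zero => rw [pow_zero, pow_zero]; rfl
        | succ k ih => rw [pow_succ, pow_succ, ← ih]; rfl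
      obtain ⟨c, v, hv, hc⟩ := exists_eigen (V := Fin 3 → F) (Matrix.toLin' (mat y)) (by
        rw [← Matrix.toLin'_pow, hF, ← h6, h5])
      rw [Matrix.toLin'_apply] at hc
      exact ⟨c, v, hv, hc⟩
  · -- odd characteristic `r ≥ 5`
    have hr2' := hr.two_le
    have hr4 : r ≠ 4 := by rintro rfl; exact absurd hr (by norm_num)
    have hcop : r.Coprime (q + 1) := Nat.Coprime.coprime_dvd_left hrq hcop0
    refine ⟨r, hr, by omega, hcop, ?_, ?_⟩
    · apply exists_prime_orderOf_dvd_card' r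
      have h4 : r ∣ (q + 1) * Nat.card (Cfsg.SU 3 F q) := by
        rw [hcard]
        exact Dvd.dvd.mul_right (dvd_pow hrq (by norm_num)) _
      exact hcop.dvd_of_dvd_mul_left h4
    · intro y hy
      have hP : IsPGroup r ↥(zpowers y) := by
        rw [IsPGroup.iff_card, Nat.card_zpowers]
        obtain ⟨i, -, hi⟩ := (Nat.dvd_prime_pow hr).1 (show orderOf y ∣ r ^ 1 by
          rw [pow_one]; exact orderOf_dvd_of_pow_eq_one hy)
        exact ⟨i, hi⟩
      obtain ⟨v, -, hv, hv2⟩ := exists_fixed hF (zpowers y) hP ⊤ (fun _ _ _ _ => Submodule.mem_top) (by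
        intro h4
        have h5 : finrank F (⊤ : Submodule F (Fin 3 → F)) = 0 := by rw [h4]; exact finrank_bot F _
        rw [finrank_top, finrank_fin_fun] at h5
        omega)
      exact ⟨1, v, hv, by rw [one_smul]; exact hv2 y (mem_zpowers y)⟩

/-- **Linear automorphisms of `PSU_3(q)`.** -/
theorem three_case (hF : Fintype.card F = q ^ 2) (hq2 : q ≠ 2) {p : ℕ} [hp : Fact p.Prime] (hp2 : p ≠ 2)
    (hpF : (p : F) ≠ 0) (hpq : ¬ p ∣ q) {A : GU 3 F q} (ha : orderOf (toAut A 1) = p) :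
    ((∃ s : PSU 3 F q, toAut A 1 = MulAut.conj s) ∧
        ∃ P : Sylow p (PSU 3 F q), IsCyclic ↥(P : Subgroup (PSU 3 F q))) ∨
      ∃ x : PSU 3 F q, ¬ p ∣ orderOf x ∧ PCent p x ∧ ∀ g : MulAut (PSU 3 F q), (g * toAut A 1 * g⁻¹) x ≠ x := by
  have hq := two_le hF
  obtain ⟨r, f, hr, hch, hqr, hf⟩ := exists_prime_pow hF
  obtain ⟨l, h, -, hl1, -⟩ := exists_odd hr hf hqr (k := 3) ⟨1, rfl⟩ le_rfl (by omega)
  by_cases hty : Ty q p 3
  · exact Or.inl (hty.first hF le_rfl ⟨1, rfl⟩ ha)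
  right
  have hlp : l ≠ p := by rintro rfl; exact hty h
  by_cases hp3 : p = 3 ∧ p ∣ q + 1
  · obtain ⟨rfl, h3⟩ := hp3
    by_cases hfree : ∀ z : PSU 3 F q, z ^ l = 1 → z ≠ 1 → toAut A 1 z ≠ z
    · exact h.third hF le_rfl (by omega) le_rfl (by omega) hp2 hpF hlp hfree
    · push Not at hfree
      obtain ⟨z, hz, hz1, hfix⟩ := hfree
      have hc := h.coprime_succ (by omega) (by omega)
      obtain ⟨y₁, hy₁, hy₁1, hcom⟩ := exists_com hF le_rfl hc hz hz1 hfix
      obtain ⟨m, hm, hm3, hmc, ⟨y, hy⟩, hme⟩ := exists_second hF hq2 h3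
      have hym : y ^ m = 1 := by rw [← hy]; exact pow_orderOf_eq_one y
      have hy1 : y ≠ 1 := by
        rintro rfl
        rw [orderOf_one] at hy
        omega
      refine third_of hF le_rfl hm hmc hym hy1 (by omega) (pcent_pr hp2 hpF hm (by omega) hm3 hym) ?_
      intro z' hz' hz'1 hfix'
      obtain ⟨y', hy', hy'1, hcom'⟩ := exists_com hF le_rfl hmc hz' hz'1 hfix'
      obtain ⟨c, v, hv, hcv⟩ := hme y' hy'
      have h4 := h.scalar_three hF hy₁ hy₁1 hcom hmc hy' hy'1 hcom' hv hcv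
      rw [h4, orderOf_one] at ha
      exact hp.1.one_lt.ne ha
  · exact h.third hF le_rfl (by omega) le_rfl (by omega) hp2 hpF hlp
      (h.prime_free hF Nat.prime_three le_rfl hpq hp3 hty ha)

end Cfsg.Agent.H173.RU
end

-- part: H173/RU/FourTwo
section
/-!
# Row PSU of S4329: `PSU_4(2)` and `PSU_5(2)`
-/

set_option autoImplicit false

namespace Cfsg.Agent.H173.RU

open Cfsg Module Matrix Subgroup
open Cfsg.Agent.LieClassical.HermBasic Cfsg.Agent.LieClassical.HermSiegel
open Cfsg.Agent.ClassicalGeometry.HermOrtho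
open Cfsg.Agent.ClassicalGeometry.PSUAutBasic (pr pr_surjective pr_eq_one_iff exists_center_mul)
open Cfsg.Agent.ClassicalGeometry.UnitAutBasic (mem_center_of_scalar)
open Cfsg.Agent.ClassicalGeometry.PSUAutCount (gm gm_mul gm_one gm_mul_inv gm_inv_mul gm_inj herm_gm gm_inv_mulVec
  gm_mulVec_inv semiConj toAut toAut_pr act_semiConj eq_of_toAut_eq sc gm_sc_mul toAut_sc_mul)
open Cfsg.Agent.CpAutU.Desc (toAut_mul toAut_one)
open Cfsg.Agent.GpUn
open Cfsg.Agent.H568

variable {F : Type*} [Field F] [Fintype F] {n l k : ℕ}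

/-- **Linear automorphisms of `PSU_5(2)`.** -/
theorem five_two (hF : Fintype.card F = 2 ^ 2) {p : ℕ} [hp : Fact p.Prime] (hp2 : p ≠ 2)
    (hpF : (p : F) ≠ 0) (hpq : ¬ p ∣ 2) {A : GU 5 F 2} (ha : orderOf (toAut A 1) = p) :
    ((∃ s : PSU 5 F 2, toAut A 1 = MulAut.conj s) ∧
        ∃ P : Sylow p (PSU 5 F 2), IsCyclic ↥(P : Subgroup (PSU 5 F 2))) ∨
      ∃ x : PSU 5 F 2, ¬ p ∣ orderOf x ∧ PCent p x ∧ ∀ g : MulAut (PSU 5 F 2), (g * toAut A 1 * g⁻¹) x ≠ x := by
  obtain ⟨l, h, -, hl1, -⟩ := exists_odd Nat.prime_two le_rfl (pow_one 2).symm (k := 5) ⟨2, rfl⟩ (by omega) (by omega)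
  by_cases hty : Ty 2 p 5
  · exact Or.inl (hty.first hF (by omega) ⟨2, rfl⟩ ha)
  right
  have hlp : l ≠ p := by rintro rfl; exact hty h
  refine h.third hF (by omega) (by omega) le_rfl (by omega) hp2 hpF hlp
    (h.prime_free hF Nat.prime_five (by omega) hpq ?_ hty ha)
  rintro ⟨rfl, h5⟩
  omega

/-! ### `PSU_4(2)` -/

theorem card_four (hF : Fintype.card F = 2 ^ 2) : Nat.card (Cfsg.SU 4 F 2) = 25920 := by
  have h1 := Cfsg.Agent.S0278.result hF 4 (by omega)
  norm_num only [Finset.prod_range_succ, Nat.even_add_one, _root_.Finset.range_one, _root_.Finset.prod_singleton, _root_.ite_true, _root_.ite_false] at h1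
  omega

/-- A matrix of order `3` in the third power scalar ... : `A ^ 3` is a scalar `c ≠ 1`, impossible in dimension `4`. -/
theorem four_scalar (hF : Fintype.card F = 2 ^ 2) {A : GU 4 F 2} {c : F} (hc : c ^ 3 = 1)
    (hA : gm A ^ 3 = c • 1) : c = 1 := by
  by_contra hc1
  have hA9 : A ^ 9 = 1 := by
    apply gm_inj
    rw [gm_pow, show 9 = 3 * 3 by norm_num, pow_mul, hA, smul_pow, hc, one_pow, one_smul, gm_one]
  have hA3 : ∀ (i : ℕ), gm (A ^ (3 * i)) = c ^ i • 1 := by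
    intro i
    rw [gm_pow, pow_mul, hA, smul_pow, one_pow]
  have hd := orderOf_dvd_of_semiregular hF A ⊤ (fun _ _ => Submodule.mem_top) (by
    intro j v _ hv0 hfix
    by_cases h3 : 3 ∣ j
    · obtain ⟨i, rfl⟩ := h3
      rw [hA3, Matrix.smul_mulVec, one_mulVec] at hfix
      have h4 : (c ^ i - 1) • v = 0 := by rw [sub_smul, hfix, one_smul, sub_self]
      rcases smul_eq_zero.1 h4 with h5 | h5
      · apply gm_inj
        rw [hA3, sub_eq_zero.1 h5, one_smul, gm_one]
      · exact absurd h5 hv0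
    · exfalso
      have hcop : Nat.Coprime j 9 := by
        have : Nat.Coprime j 3 := Nat.Coprime.symm ((Nat.Prime.coprime_iff_not_dvd Nat.prime_three).2 h3)
        exact this.pow_right 2
      obtain ⟨i, hi⟩ := Nat.exists_mul_mod_eq_one_of_coprime hcop (by norm_num)
      have h4 : ∀ m : ℕ, gm ((A ^ j) ^ m) *ᵥ v = v := by
        intro m
        induction m with
        | zero => rw [pow_zero, gm_one, one_mulVec]
        | succ m ih => rw [pow_succ, gm_mul, ← mulVec_mulVec, hfix, ih]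
      have h5 : (A ^ j) ^ i = A := by
        have h6 : A ^ (j * i) = A ^ 1 := by
          rw [pow_eq_pow_iff_modEq]
          refine Nat.ModEq.of_dvd (orderOf_dvd_of_pow_eq_one hA9) ?_
          exact hi.2
        rw [← pow_mul, h6, pow_one]
      have h6 := h4 i
      rw [h5] at h6
      have h7 : gm A ^ 3 *ᵥ v = v := by
        rw [pow_succ, pow_succ, pow_one, ← mulVec_mulVec, ← mulVec_mulVec, h6, h6, h6]
      rw [hA, Matrix.smul_mulVec, one_mulVec] at h7
      have h8 : (c - 1) • v = 0 := by rw [sub_smul, h7, one_smul, sub_self]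
      rcases smul_eq_zero.1 h8 with h9 | h9
      · exact hc1 (sub_eq_zero.1 h9)
      · exact hv0 h9)
  rw [finrank_top, finrank_fin_fun] at hd
  have h9 := orderOf_dvd_of_pow_eq_one hA9
  have h10 := Nat.dvd_gcd hd h9
  norm_num at h10
  have h11 : gm A ^ 3 = 1 := by
    rw [← gm_pow, orderOf_dvd_iff_pow_eq_one.1 h10, gm_one]
  apply hc1
  rw [hA] at h11
  have h12 := congrFun (congrFun h11 0) 0
  simpa using h12

/-- An element of type `4` of `SU_4(2)` leaves invariant no nondegenerate proper subspace. -/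
theorem Ty.no_nd (h : Ty 2 l 4) (hF : Fintype.card F = 2 ^ 2) {y : SU 4 F 2} (hy : y ^ l = 1) (hy1 : y ≠ 1)
    (E : Submodule F (Fin 4 → F)) (hE : ND 2 E) (hyE : ∀ u ∈ E, act y u ∈ E) (h0 : E ≠ ⊥) (h1 : E ≠ ⊤) : False := by
  have hfx : fx y = ⊥ := h.fx_eq_bot hF hy hy1
  have hcop := h.coprime_succ (by omega) (by omega)
  have h3 := finrank_perp hF hE
  obtain ⟨g, hg1, hg2⟩ := exists_glue hF hcop hE hy hyE
  have hgE : ∀ (j : ℕ), ∀ u ∈ E, act (g ^ j) u = act (y ^ j) u := by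
    intro j
    induction j with
    | zero => intro u _; rw [pow_zero, pow_zero]
    | succ j ih => intro u hu; rw [pow_succ, pow_succ, act_mul, act_mul, hg1 u hu, ih _ (hyE u hu)]
  have hgl : g ^ l = 1 := by
    apply ext_dec hF hE
    · intro u hu
      rw [hgE l u hu, hy]
    · intro w hw
      rw [act_pow_fix l (hg2 w hw), act_one]
  have hgne : g ≠ 1 := by
    rintro rfl
    apply h0
    rw [Submodule.eq_bot_iff]
    intro u hu
    have h4 := hg1 u hu
    rw [act_one] at h4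
    have h5 : u ∈ fx y := h4.symm
    rwa [hfx, Submodule.mem_bot] at h5
  have h4 := h.le_sub hF hgl hgne
  have h5 : hermPerp 2 (E : Set (Fin 4 → F)) ≤ fx g := fun w hw => hg2 w hw
  have h6 := Submodule.finrank_mono h5
  have h7 : finrank F E ≠ 4 := by
    intro h8
    apply h1
    apply Submodule.eq_top_of_finrank_eq
    rw [h8, finrank_fin_fun]
  omega

theorem four_three (h : Ty 2 l 4) (hF : Fintype.card F = 2 ^ 2) {A : GU 4 F 2} (hA3 : toAut A 1 ^ 3 = 1)
    (hne : toAut A 1 ≠ 1) (z : PSU 4 F 2) (hz : z ^ l = 1) (hz1 : z ≠ 1) : toAut A 1 z ≠ z := by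
  intro hfix
  obtain ⟨c, hc, hA⟩ := exists_scalar_pow hF (by omega) hA3
  have hc3 : c ^ 3 = 1 := by rw [pow_succ', hc]
  have hc1 := four_scalar hF hc3 hA
  rw [hc1, one_smul] at hA
  obtain ⟨y, hy, hy1, hcom⟩ := exists_com hF (by omega) (h.coprime_succ (by omega) (by omega)) hz hz1 hfix
  obtain ⟨d, v, hv, hd⟩ := exists_eigen (V := Fin 4 → F) (Matrix.toLin' (gm A)) (by
    rw [← Matrix.toLin'_pow, hF, show 2 ^ 2 = 3 + 1 by norm_num, pow_succ, hA, one_mul])
  rw [Matrix.toLin'_apply] at hd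
  have hAA : ∀ u, gm A *ᵥ (gm A *ᵥ (gm A *ᵥ u)) = u := by
    intro u
    rw [mulVec_mulVec, mulVec_mulVec, show gm A * gm A * gm A = gm A ^ 3 by rw [pow_succ, pow_succ, pow_one],
      hA, one_mulVec]
  have hd3 : d ^ 3 = 1 := by
    have h1 := hAA v
    rw [hd, mulVec_smul, hd, mulVec_smul, mulVec_smul, hd, smul_smul, smul_smul] at h1
    have h2 : (d ^ 3 - 1) • v = 0 := by
      rw [sub_smul, one_smul, sub_eq_zero, show d ^ 3 = d * d * d by ring]
      exact h1
    rcases smul_eq_zero.1 h2 with h3 | h3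
    · exact sub_eq_zero.1 h3
    · exact absurd h3 hv
  have hd0 : d ≠ 0 := by
    rintro rfl
    norm_num at hd3
  refine h.no_nd hF hy hy1 (eig A d) ?_ (hcom.eig_inv d) ?_ ?_
  · -- nondegenerate
    intro u hu hperp
    apply herm_nondeg hF
    intro x
    rw [mem_eig] at hu
    have h4 : ∀ w, hermForm 4 F 2 u (d ^ 2 • gm A *ᵥ w) = hermForm 4 F 2 u w := by
      intro w
      have h5 := herm_gm A u w
      rw [hu, herm_smul_left] at h5
      rw [herm_smul_right, ← h5, show (d ^ 2) ^ 2 = d ^ 3 * d by ring, hd3, one_mul]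
    have h6 : x + (d ^ 2 • gm A *ᵥ x + d ^ 2 • gm A *ᵥ (d ^ 2 • gm A *ᵥ x)) ∈ eig A d := by
      rw [mem_eig, mulVec_add, mulVec_add, mulVec_smul, mulVec_smul, mulVec_smul, hAA]
      simp only [smul_add, smul_smul]
      rw [show d * (d ^ 2 * d ^ 2) = d ^ 2 * d ^ 3 by ring, show d * d ^ 2 = 1 by rw [← hd3]; ring,
        show d ^ 2 * d ^ 2 = d * (d ^ 3) by ring, hd3, mul_one, mul_one, one_smul]
      abel
    have h7 := hperp _ h6
    rw [herm_add_right hF, herm_add_right hF, h4, h4, h4] at h7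
    have h8 : (3 : F) * hermForm 4 F 2 u x = 0 := by rw [← h7]; ring
    have h9 : (3 : F) ≠ 0 := by
      have := natCast_ne_zero (F := F) hF Nat.prime_three (by norm_num)
      exact_mod_cast this
    rcases mul_eq_zero.1 h8 with h10 | h10
    · exact absurd h10 h9
    · exact h10
  · intro h0
    apply hv
    have h2 : v ∈ eig A d := hd
    rwa [h0, Submodule.mem_bot] at h2
  · intro h0
    apply hne
    apply toAut_eq_one_of_scalar (by omega) (c := d)
    intro w
    have h2 : w ∈ eig A d := by rw [h0]; trivial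
    exact h2

/-- **Linear automorphisms of `PSU_4(2)`.** -/
theorem four_two (hF : Fintype.card F = 2 ^ 2) {p : ℕ} [hp : Fact p.Prime] (hp2 : p ≠ 2)
    (hpF : (p : F) ≠ 0) {A : GU 4 F 2} (ha : orderOf (toAut A 1) = p) :
    ((∃ s : PSU 4 F 2, toAut A 1 = MulAut.conj s) ∧
        ∃ P : Sylow p (PSU 4 F 2), IsCyclic ↥(P : Subgroup (PSU 4 F 2))) ∨
      ∃ x : PSU 4 F 2, ¬ p ∣ orderOf x ∧ PCent p x ∧ ∀ g : MulAut (PSU 4 F 2), (g * toAut A 1 * g⁻¹) x ≠ x := by
  have hne : toAut A 1 ≠ 1 := by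
    intro h
    rw [h, orderOf_one] at ha
    exact hp.1.one_lt.ne ha
  have hap : toAut A 1 ^ p = 1 := by rw [← ha]; exact pow_orderOf_eq_one _
  by_cases hp3 : p = 3
  · subst hp3
    right
    obtain ⟨l, h, hl⟩ := exists_even Nat.prime_two le_rfl (pow_one 2).symm (n := 4) ⟨2, rfl⟩ le_rfl
    exact h.third hF (by omega) (by omega) le_rfl hl hp2 hpF (by omega) (four_three h hF hap hne)
  · left
    have hcop : p.Coprime (2 + 1) := (Nat.coprime_primes hp.1 Nat.prime_three).2 hp3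
    obtain ⟨g, B, hg, hBA, hBg, hgA⟩ := exists_su hF (by omega) hcop hap
    refine ⟨⟨_, hgA⟩, ?_⟩
    have hg1 : g ≠ 1 := by
      rintro rfl
      rw [map_one, map_one] at hgA
      exact hne hgA
    have hd : p ∣ 25920 := by
      rw [← card_four hF, ← orderOf_eq_prime hg hg1]
      exact _root_.orderOf_dvd_natCard g
    have hp5 : p = 5 := by
      rw [show 25920 = 2 ^ 6 * 3 ^ 4 * 5 by norm_num] at hd
      rcases (Nat.Prime.dvd_mul hp.1).1 hd with h1 | h1
      · rcases (Nat.Prime.dvd_mul hp.1).1 h1 with h2 | h2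
        · exact absurd ((Nat.prime_dvd_prime_iff_eq hp.1 Nat.prime_two).1 (hp.1.dvd_of_dvd_pow h2)) hp2
        · exact absurd ((Nat.prime_dvd_prime_iff_eq hp.1 Nat.prime_three).1 (hp.1.dvd_of_dvd_pow h2)) hp3
      · exact (Nat.prime_dvd_prime_iff_eq hp.1 Nat.prime_five).1 h1
    subst hp5
    obtain ⟨P⟩ : Nonempty (Sylow 5 (PSU 4 F 2)) := inferInstance
    refine ⟨P, ?_⟩
    obtain ⟨i, hi⟩ := (IsPGroup.iff_card).1 P.isPGroup'
    have h1 : Nat.card (P : Subgroup (PSU 4 F 2)) ∣ 25920 := by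
      rw [← card_four hF]
      exact (Subgroup.card_subgroup_dvd_card _).trans (Subgroup.card_dvd_of_surjective (pr 4 F 2) pr_surjective)
    rw [hi] at h1
    have h2 : i < 2 := by
      by_contra h3
      have h4 : 5 ^ 2 ∣ 25920 := (pow_dvd_pow 5 (by omega)).trans h1
      norm_num at h4
    interval_cases i
    · have : Subsingleton (P : Subgroup (PSU 4 F 2)) := (Finite.card_le_one_iff_subsingleton).1 (by rw [hi]; norm_num)
      exact isCyclic_of_subsingleton
    · have : Fact (Nat.Prime 5) := ⟨Nat.prime_five⟩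
      exact isCyclic_of_prime_card (p := 5) (by rw [hi, pow_one])

end Cfsg.Agent.H173.RU
end

-- part: H173/RU/Fld
section
/-!
# Row PSU of S4329: field automorphisms
-/

set_option autoImplicit false

namespace Cfsg.Agent.H173.RU

open Cfsg Module Matrix Subgroup
open Cfsg.Agent.LieClassical.HermBasic Cfsg.Agent.LieClassical.HermSiegel
open Cfsg.Agent.ClassicalGeometry.HermOrtho
open Cfsg.Agent.ClassicalGeometry.PSUAutBasic (pr pr_surjective pr_eq_one_iff exists_center_mul)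
open Cfsg.Agent.ClassicalGeometry.PSUAutCount (gm gm_mul gm_one gm_mul_inv gm_inv_mul gm_inj herm_gm gm_inv_mulVec
  gm_mulVec_inv semiConj toAut toAut_pr act_semiConj eq_of_toAut_eq sc gm_sc_mul toAut_sc_mul)
open Cfsg.Agent.CpAutU.Desc (toAut_mul toAut_one)
open Cfsg.Agent.CpAut.Psl (fixf)
open Cfsg.Agent.GpUn
open Cfsg.Agent.H568

variable {F : Type*} [Field F] [Fintype F] {q n l k : ℕ}

theorem dvd_of_card_SU {E : Type*} [Field E] [Fintype E] {s : ℕ} (hE : Fintype.card E = s ^ 2) (hn : 1 ≤ n)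
    (hl : l.Prime) (hls : ¬ l ∣ s) (hd : l ∣ Nat.card (SU n E s)) : ∃ i, i < n ∧ (s : ZMod l) ^ (2 * (i + 1)) = 1 := by
  have hs := two_le hE
  have h1 := Cfsg.Agent.S0278.result hE n hn
  have h2 : l ∣ s ^ (n * (n - 1) / 2) * ∏ i ∈ Finset.range n, (if Even i then s ^ (i + 1) + 1 else s ^ (i + 1) - 1) := by
    rw [← h1]
    exact Dvd.dvd.mul_left hd _
  rcases (Nat.Prime.dvd_mul hl).1 h2 with h3 | h3
  · exact absurd (hl.dvd_of_dvd_pow h3) hls
  · obtain ⟨i, hi, h4⟩ := (Prime.dvd_finset_prod_iff hl.prime _).1 h3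
    refine ⟨i, Finset.mem_range.1 hi, ?_⟩
    rw [mul_comm, pow_mul]
    by_cases he : Even i
    · rw [if_pos he] at h4
      rw [← ZMod.natCast_eq_zero_iff] at h4
      push_cast at h4
      rw [eq_neg_of_add_eq_zero_left h4]
      ring
    · rw [if_neg he] at h4
      rw [← ZMod.natCast_eq_zero_iff, Nat.cast_sub (Nat.one_le_pow _ _ (by omega))] at h4
      push_cast at h4
      rw [sub_eq_zero.1 h4, one_pow]

/-- **A field automorphism of order `p` fixes no element of order `l`.** -/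
theorem Ty.field_free (h : Ty q l k) (hF : Fintype.card F = q ^ 2) (hn : 3 ≤ n) (hk : 2 ≤ k) {r f : ℕ}
    (hr : r.Prime) (hf : 1 ≤ f) (hq : q = r ^ f) (hord : orderOf (r : ZMod l) = 2 * f * k) {p : ℕ} (hp : p.Prime)
    (hp2 : p ≠ 2) (hpk : n < p * k) {A : GU n F q} {ρ : F ≃+* F} (ha : toAut A ρ ^ p = 1) (hρ : ρ ≠ 1)
    {z : PSU n F q} (hz : z ^ l = 1) (hz1 : z ≠ 1) : toAut A ρ z ≠ z := by
  intro hfix
  have hq2 := two_le hF
  have hodd := hp.odd_of_ne_two hp2
  obtain ⟨hord2, M, hM⟩ := Cfsg.Agent.CpAutU.Desc.exists_conj hF hn hp hp2 ha hρ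
  obtain ⟨s, hs2, hs, hqs⟩ := Cfsg.Agent.CpAutU.Fld.exists_s' hF hord2 hodd
  have hpow : ∀ a ∈ fixf ρ, a ^ q = a ^ s := fun a ha => Cfsg.Agent.CpAutU.Fld.pow_q hodd hs hqs ha
  set w : PSU n F q := (toAut M 1)⁻¹ z with hw
  have hwl : w ^ l = 1 := by rw [hw, ← map_pow, hz, map_one]
  have hw1 : w ≠ 1 := by
    intro h0
    apply hz1
    have h2 := congrArg (toAut M 1) h0
    rw [hw, MulAut.apply_inv_self, map_one] at h2
    exact h2
  have hwf : toAut 1 ρ w = w := by
    rw [hM, MulAut.mul_apply, MulAut.mul_apply, ← hw] at hfix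
    have h2 := congrArg ((toAut M 1)⁻¹ : MulAut (PSU n F q)) hfix
    rw [MulAut.inv_apply_self, ← hw] at h2
    exact h2
  have hcop := h.coprime_succ (by omega) hk
  obtain ⟨y, hy, hyw⟩ := exists_lift_elt hF hn hcop hwl
  rw [← hyw] at hwf hw1
  have h1 : semiConj 1 ρ y = y := by
    refine eq_of_pr_eq hF hn hcop ?_ hy hwf
    rw [← map_pow, hy, map_one]
  obtain ⟨g, hg⟩ := Cfsg.Agent.CpAutU.Fixed.exists_embSU hF hpow h1
  have := Fintype.ofFinite ↥(fixf ρ)
  have hF₀ : Fintype.card ↥(fixf ρ) = s ^ 2 := by rw [← Nat.card_eq_fintype_card, hs]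
  have hgl : g ^ l = 1 := by
    apply Cfsg.Agent.CpAutU.Fixed.embSU_injective hF hpow
    rw [map_pow, hg, hy, map_one]
  have hg1 : g ≠ 1 := by
    rintro rfl
    rw [map_one] at hg
    apply hw1
    rw [← hg, map_one]
  have hgo : orderOf g = l := @orderOf_eq_prime _ _ _ _ ⟨h.prime⟩ hgl hg1
  have hd : l ∣ Nat.card (SU n ↥(fixf ρ) s) := by rw [← hgo]; exact _root_.orderOf_dvd_natCard g
  have hls : ¬ l ∣ s := fun hd => h.not_dvd (by rw [hqs]; exact dvd_pow hd hp.ne_zero)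
  obtain ⟨i, hi, h2⟩ := dvd_of_card_SU hF₀ (by omega) h.prime hls hd
  -- `s` is a power of `r`
  obtain ⟨g', hg', hsg⟩ : ∃ g', g' ≤ f ∧ s = r ^ g' := by
    apply (Nat.dvd_prime_pow hr).1
    rw [← hq, hqs]
    exact dvd_pow_self s hp.ne_zero
  have hfg : f = g' * p := by
    apply Nat.pow_right_injective hr.two_le
    show r ^ f = r ^ (g' * p)
    rw [← hq, hqs, hsg, pow_mul]
  have hg0 : g' ≠ 0 := by
    rintro rfl
    rw [pow_zero] at hsg
    omega
  have h3 : orderOf (s : ZMod l) = 2 * (p * k) := by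
    rw [hsg]
    push_cast
    have h4 : 2 * f * k = g' * (2 * (p * k)) := by rw [hfg]; ring
    rw [orderOf_pow_of_dvd hg0 (by rw [hord, h4]; exact Dvd.intro _ rfl), hord, h4,
      Nat.mul_div_cancel_left _ (Nat.pos_of_ne_zero hg0)]
  have h5 := orderOf_dvd_of_pow_eq_one h2
  rw [h3] at h5
  have h6 := Nat.le_of_dvd (by omega) h5
  omega

end Cfsg.Agent.H173.RU
end

-- part: H173/RU/Main
section
/-!
# Row PSU of S4329
-/

set_option autoImplicit false

namespace Cfsg.Agent.H173.RU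

open Cfsg Module Matrix Subgroup
open Cfsg.Agent.LieClassical.HermBasic Cfsg.Agent.LieClassical.HermSiegel
open Cfsg.Agent.ClassicalGeometry.HermOrtho
open Cfsg.Agent.ClassicalGeometry.PSUAutBasic (pr pr_surjective pr_eq_one_iff exists_center_mul)
open Cfsg.Agent.ClassicalGeometry.PSUAutCount (gm toAut)
open Cfsg.Agent.GpUn
open Cfsg.Agent.H568

variable {F : Type*} [Field F] [Fintype F] {q n : ℕ}

/-- The order of a field automorphism. -/
theorem dvd_of_field (hF : Fintype.card F = q ^ 2) (hn : 3 ≤ n) {r f : ℕ} (hr : r.Prime) (hq : q = r ^ f) {p : ℕ}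
    (hp : p.Prime) (hp2 : p ≠ 2) {A : GU n F q} {ρ : F ≃+* F} (ha : toAut A ρ ^ p = 1) (hρ : ρ ≠ 1) :
    p ∣ f ∧ 8 ≤ q := by
  obtain ⟨hord2, M, hM⟩ := Cfsg.Agent.CpAutU.Desc.exists_conj hF hn hp hp2 ha hρ
  obtain ⟨s, hs2, hs, hqs⟩ := Cfsg.Agent.CpAutU.Fld.exists_s' hF hord2 (hp.odd_of_ne_two hp2)
  obtain ⟨g', hg', hsg⟩ : ∃ g', g' ≤ f ∧ s = r ^ g' := by
    apply (Nat.dvd_prime_pow hr).1
    rw [← hq, hqs]
    exact dvd_pow_self s hp.ne_zero
  have hfg : f = g' * p := by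
    apply Nat.pow_right_injective hr.two_le
    show r ^ f = r ^ (g' * p)
    rw [← hq, hqs, hsg, pow_mul]
  refine ⟨hfg ▸ Dvd.intro_left _ rfl, ?_⟩
  have hp3 : 3 ≤ p := by have := hp.two_le; omega
  calc 8 = 2 ^ 3 := by norm_num
    _ ≤ s ^ 3 := Nat.pow_le_pow_left hs2 3
    _ ≤ s ^ p := Nat.pow_le_pow_right (by omega) hp3
    _ = q := hqs.symm

/-- An odd type `k ∈ {n, n - 1}`. -/
theorem exists_k (hn : 3 ≤ n) : ∃ k, Odd k ∧ 3 ≤ k ∧ k ≤ n ∧ n ≤ k + 1 := by
  rcases Nat.even_or_odd n with h | h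
  · obtain ⟨a, ha⟩ := h
    exact ⟨n - 1, ⟨a - 1, by omega⟩, by omega, by omega, by omega⟩
  · exact ⟨n, h, hn, le_rfl, by omega⟩

/-- **The row `PSU_n(q)`.** -/
theorem row_PSU (hF : Fintype.card F = q ^ 2) (hn : 3 ≤ n) (h32 : ¬ (n = 3 ∧ q = 2)) {p : ℕ} [hp : Fact p.Prime]
    (hp2 : p ≠ 2) : Row p (PSU n F q) := by
  have hq := two_le hF
  obtain ⟨r, f, hr, hch, hqr, hf⟩ := exists_prime_pow hF
  have hrF := Fact.mk hr
  have hs := Cfsg.Agent.S0283.result hF n hn h32
  have hrq : r ∣ q := by rw [hqr]; exact dvd_pow_self r hf.ne'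
  have hpr : p ≠ r → ¬ p ∣ q := by
    intro h1 h2
    rw [hqr] at h2
    exact h1 ((Nat.prime_dvd_prime_iff_eq hp.1 hr).1 (hp.1.dvd_of_dvd_pow h2))
  refine row_of (Cfsg.Agent.CpAut.Fix.not_comm_quot (H := SU n F q)) ?_
  intro a ha
  have hap : a ^ p = 1 := by rw [← ha]; exact pow_orderOf_eq_one _
  obtain ⟨A, ρ, rfl⟩ := Cfsg.Agent.ClassicalGeometry.PSUAutMain.exists_toAut hF hn h32 a
  obtain ⟨k, hk, hk3, hkn, hnk⟩ := exists_k hn
  by_cases hρ : ρ = 1
  · subst hρ
    by_cases hpr' : p = r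
    · -- the defining characteristic
      subst hpr'
      right; left
      have hq3 : q ≠ 2 := by
        rintro rfl
        exact hp2 ((Nat.prime_dvd_prime_iff_eq hp.1 Nat.prime_two).1 hrq)
      obtain ⟨l, h, -, hl1, -⟩ := exists_odd hr hf hqr hk hk3 (by omega)
      obtain ⟨s, hs⟩ := Cfsg.Agent.CpAutU.Desc.inner_of_lin hF hn (p := p) hap
      obtain ⟨y, hy⟩ := h.exists_elt (n := n) hF (by omega) hkn
      have hyl : y ^ l = 1 := by rw [← hy]; exact pow_orderOf_eq_one y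
      have hy1 : y ≠ 1 := by
        rintro rfl
        rw [orderOf_one] at hy
        exact h.prime.one_lt.ne hy
      exact ⟨⟨s, hs.symm⟩, pr n F q y, h.noNorm hF hk (by omega) hnk hyl hy1⟩
    · -- linear, prime to the characteristic
      have hpq := hpr hpr'
      have hpF := natCast_ne_zero (F := F) hF hp.1 hpq
      rcases Nat.even_or_odd n with hne | hno
      · by_cases h42 : n = 4 ∧ q = 2
        · obtain ⟨rfl, rfl⟩ := h42
          rcases four_two hF hp2 hpF ha with h | h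
          · exact Or.inl h
          · exact Or.inr (Or.inr h)
        · refine Or.inr (Or.inr (even_case hF hne ?_ h42 hp2 hpF ha))
          obtain ⟨b, hb⟩ := hne
          omega
      · by_cases h3 : n = 3
        · subst h3
          rcases three_case hF (by omega) hp2 hpF hpq ha with h | h
          · exact Or.inl h
          · exact Or.inr (Or.inr h)
        · by_cases h52 : n = 5 ∧ q = 2
          · obtain ⟨rfl, rfl⟩ := h52
            rcases five_two hF hp2 hpF hpq ha with h | h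
            · exact Or.inl h
            · exact Or.inr (Or.inr h)
          · refine Or.inr (Or.inr (odd_case hF hno ?_ h52 hp2 hpF ha))
            obtain ⟨b, hb⟩ := hno
            omega
  · -- not linear
    right; right
    obtain ⟨hpf, hq8⟩ := dvd_of_field hF hn hr hqr hp.1 hp2 hap hρ
    obtain ⟨l, h, hord, hl1, hl2⟩ := exists_odd hr hf hqr hk hk3 (by omega)
    obtain ⟨y, hy⟩ := h.exists_elt (n := n) hF (by omega) hkn
    have hyl : y ^ l = 1 := by rw [← hy]; exact pow_orderOf_eq_one y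
    have hy1 : y ≠ 1 := by
      rintro rfl
      rw [orderOf_one] at hy
      exact h.prime.one_lt.ne hy
    have hc := h.coprime_succ (by omega) (by omega)
    have hp3 : 3 ≤ p := by have := hp.1.two_le; omega
    have hpf' := Nat.le_of_dvd hf hpf
    have h5 : p * 3 ≤ 2 * f * k := Nat.mul_le_mul (by omega) hk3
    have h6 : 3 * k ≤ p * k := Nat.mul_le_mul_right _ hp3
    refine third_of hF hn h.prime hc hyl hy1 (by omega) ?_
      (fun z hz hz1 => h.field_free hF hn (by omega) hr hf hqr hord hp.1 hp2 (by omega) hap hρ hz hz1)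
    by_cases hpr' : p = r
    · subst hpr'
      exact (h.noNorm hF hk (by omega) hnk hyl hy1).pcent
    · exact pcent_pr hp2 (natCast_ne_zero (F := F) hF hp.1 (hpr hpr')) h.prime (by omega) (by omega) hyl

/-- **Row PSU of S4329.** -/
theorem row_psu (K : Type*) [Group K] [Finite K] [IsSimpleGroup K] (h : Cfsg.IsPSU K) (p : ℕ) [Fact p.Prime]
    (hp : p ≠ 2) : Cfsg.Agent.H568.Row p K := by
  obtain ⟨F, _, _, n, q, hF, hn, h32, ⟨e⟩⟩ := h
  exact (row_PSU hF hn h32 hp).congr e.symm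

end Cfsg.Agent.H173.RU
end
end
end
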